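import Cfsg.Agent.Lib.Leech.Count2
import Cfsg.Agent.Lib.Leech.ModTwo
import Cfsg.Agent.Lib.F2.Basic

/-!
# Packed vectors, a basis of the Leech lattice and coordinates

`vN a` is the integer vector whose coordinate number `i` is byte `i` of `a` minus `64`.
`bas i` (`i < 24`) is a basis of the lattice, `coord x i` the coordinates.
-/

set_option autoImplicit false

namespace Cfsg.Lib.Leech

open Finset Cfsg.Lib.Calc
open Cfsg.Lib.Golay (gIdx gPt G isCW mem_CW_of_isCW Ix)

/-- The integer vector packed in the bytes of `a`, with offset 64. -/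
def vN (a : ℕ) : GolayPt → ℤ := fun p => (get 8 a (gIdx p) : ℤ) - 64

theorem sum_golayPt {M : Type*} [AddCommMonoid M] (f : ℕ → M) :
    ∑ p : GolayPt, f (gIdx p) = ∑ i ∈ range 24, f i := by
  rw [Finset.sum_range]
  exact Fintype.sum_equiv G.equiv _ _ fun _ => rfl

theorem gIdx_lt (p : GolayPt) : gIdx p < 24 := G.idx_lt p
theorem gIdx_gPt {i : ℕ} (hi : i < 24) : gIdx (gPt i) = i := G.idx_pt i hi
theorem gPt_gIdx (p : GolayPt) : gPt (gIdx p) = p := G.pt_idx p

theorem beq_false_of_ne' {a b : ℕ} (h : a ≠ b) : Nat.beq a b = false := by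
  cases e : Nat.beq a b
  · rfl
  · exact absurd (beq_iff.1 e) h

/-- The numbering of the points. -/
def ptEquiv : GolayPt ≃ Fin 24 := G.equiv

/-- Sum of the first `n` values. -/
noncomputable def sumF (f : ℕ → ℕ) (n : ℕ) : ℕ :=
  Nat.rec (motive := fun _ => ℕ) (nat_lit 0) (fun i ih => Nat.add (f i) ih) n

theorem sumF_eq (f : ℕ → ℕ) (n : ℕ) : sumF f n = ∑ i ∈ range n, f i := by
  induction n with
  | zero => rfl
  | succ n ih =>
    change f n + sumF f n = _
    rw [ih, sum_range_succ, add_comm]

/-- `∑ (f i - 64) (g i - 64) = k`, where `k = kp - km`. -/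
noncomputable def dotIs (f g : ℕ → ℕ) (kp km : ℕ) : Bool :=
  Nat.beq (Nat.add (Nat.add (sumF (fun i => Nat.mul (f i) (g i)) 24) (nat_lit 98304)) km)
    (Nat.add (Nat.mul (nat_lit 64) (Nat.add (sumF f 24) (sumF g 24))) kp)

theorem sum_offset (f g : ℕ → ℕ) : ∑ i ∈ range 24, ((f i : ℤ) - 64) * ((g i : ℤ) - 64) =
    (sumF (fun i => Nat.mul (f i) (g i)) 24 : ℤ) + 98304 - 64 * (sumF f 24 + sumF g 24) := by
  rw [sumF_eq, sumF_eq, sumF_eq]
  have : ∀ i, ((f i : ℤ) - 64) * ((g i : ℤ) - 64) = ((f i * g i : ℕ) : ℤ) + 4096 - 64 * (f i + g i) := by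
    intro i; push_cast; ring
  rw [sum_congr rfl fun i _ => this i, sum_sub_distrib, sum_add_distrib, ← mul_sum, sum_add_distrib]
  simp only [Nat.mul_eq, Nat.cast_sum, sum_const, card_range, nsmul_eq_mul]
  norm_num

theorem dotIs_iff {f g : ℕ → ℕ} {kp km : ℕ} : dotIs f g kp km = true ↔
    ∑ i ∈ range 24, ((f i : ℤ) - 64) * ((g i : ℤ) - 64) = (kp : ℤ) - km := by
  rw [sum_offset, dotIs, beq_iff]
  simp only [Nat.add_eq, Nat.mul_eq]
  omega

theorem dot_vN (a b : ℕ) : dotInt (vN a) (vN b) =
    ∑ i ∈ range 24, ((get 8 a i : ℤ) - 64) * ((get 8 b i : ℤ) - 64) :=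
  sum_golayPt fun i => ((get 8 a i : ℤ) - 64) * ((get 8 b i : ℤ) - 64)

/-- The inner product of two packed vectors is `kp - km`. -/
noncomputable def dotV (a b kp km : ℕ) : Bool := dotIs (get 8 a) (get 8 b) kp km

theorem dotV_iff {a b kp km : ℕ} : dotV a b kp km = true ↔ dotInt (vN a) (vN b) = (kp : ℤ) - km := by
  rw [dot_vN, dotV, dotIs_iff]

/-- Inner product of packed vectors plus `2^20`. -/
noncomputable def dotO (a b : ℕ) : ℕ :=
  Nat.sub (Nat.add (sumF (fun i => Nat.mul (get 8 a i) (get 8 b i)) 24) (nat_lit 1146880))
    (Nat.mul (nat_lit 64) (Nat.add (sumF (get 8 a) 24) (sumF (get 8 b) 24)))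

theorem dotO_eq (a b : ℕ) : (dotO a b : ℤ) = dotInt (vN a) (vN b) + 1048576 := by
  rw [dot_vN, sum_offset, dotO]
  have h : ∀ c, sumF (get 8 c) 24 ≤ 24 * 256 := fun c => by
    rw [sumF_eq]
    refine (sum_le_card_nsmul _ _ 256 fun i _ => (get_lt 8 c i).le).trans (by simp)
  have := h a
  have := h b
  simp only [Nat.add_eq, Nat.mul_eq, Nat.sub_eq]
  omega

theorem testBit_pack_one {f : ℕ → Bool} {n i : ℕ} :
    (pack 1 (fun i => cnd (f i) (nat_lit 1) (nat_lit 0)) n).testBit i = (decide (i < n) && f i) := by
  have := testBit_pack (w := 1) (n := n) (f := fun i => cnd (f i) (nat_lit 1) (nat_lit 0))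
    (fun i _ => by cases f i <;> decide) i 0 one_pos
  rw [one_mul, add_zero] at this
  rw [this]
  cases f i <;> rfl

/-- Test for membership in the lattice. -/
noncomputable def isL (a : ℕ) : Bool :=
  band (allLt 24 fun i => Nat.beq (Nat.land (get 8 a i) 1) (Nat.land a 1))
    (band (isCW (pack 1 (fun i => cnd (bit (get 8 a i) 1) (nat_lit 1) (nat_lit 0)) 24))
      (Nat.beq (Nat.land (sumF (fun i => Nat.shiftRight (get 8 a i) 1) 24) 3) (Nat.mul 2 (Nat.land a 1))))

theorem mem_of_isL {a : ℕ} (h : isL a = true) : vN a ∈ leechLattice := by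
  rw [isL, band_eq_true, band_eq_true, allLt_iff, beq_iff] at h
  obtain ⟨h1, h2, h3⟩ := h
  have e1 : ∀ c : ℕ, Nat.land c 1 = c % 2 := fun c => Nat.and_one_is_mod c
  have e3 : ∀ c : ℕ, Nat.land c 3 = c % 4 := fun c => Nat.and_two_pow_sub_one_eq_mod c 2
  have e2 : ∀ c : ℕ, Nat.shiftRight c 1 = c / 2 := fun c => Nat.shiftRight_one c
  refine mem_leech_iff.2 ⟨(a % 2 : ℕ), fun p => ((get 8 a (gIdx p) / 2 : ℕ) : ℤ) - 32, fun p => ?_, ?_, ?_⟩
  · have := beq_iff.1 (h1 _ (gIdx_lt p))
    rw [e1, e1] at this
    unfold vN
    beta_reduce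
    omega
  · rw [red_mem_iff]
    convert mem_CW_of_isCW h2 using 1
    ext p
    rw [mem_filter, Golay.Ix.mem_toF, testBit_pack_one, bit_eq, Nat.testBit_succ, Nat.testBit_zero]
    change _ ↔ (decide (gIdx p < 24) && decide (get 8 a (gIdx p) / 2 % 2 = 1)) = true
    simp only [mem_univ, true_and, gIdx_lt p, decide_true, Bool.true_and, decide_eq_true_eq]
    omega
  · rw [sum_golayPt fun i => ((get 8 a i / 2 : ℕ) : ℤ) - 32, sum_sub_distrib, ← Nat.cast_sum]
    rw [e3, e1, sumF_eq] at h3
    simp only [e2, Nat.mul_eq] at h3
    simp only [sum_const, card_range, nsmul_eq_mul]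
    omega

/-- A packed vector as a lattice element (junk value `0`). -/
noncomputable def lv (a : ℕ) : leechLattice :=
  open Classical in if h : vN a ∈ leechLattice then ⟨vN a, h⟩ else 0

theorem coe_lv {a : ℕ} (h : isL a = true) : (lv a : GolayPt → ℤ) = vN a := by
  rw [lv, dif_pos (mem_of_isL h)]

/-- The packed basis. -/
def basP : ℕ := 0x4840404040404040404040404040404040404040404040404444404040404040404040404040404040404040404040404440444040404040404040404040404040404040404040404440404440404040404040404040404040404040404040404440404044404040404040404040404040404040404040404440404040444040404040404040404040404040404040404440404040404440404040404040404040404040404040404440404040404044404040404040404040404040404040404440404040404040444040404040404040404040404040404440404040404040404440404040404040404040404040404440404040404040404044404040404040404040404040404440404040404040404040444040404040404040404040404242424040404242424042404240404040404040404040404240424240404042424240424042404040404040404040404042424242404242404240404040424040404040404040404040424242424042424042404040404240404040404040404040404242424240424240424040404042404040404040404242424042424040424240404040404040424040404040404240424240424240404242404040404040404240404040404240404242404242404042424040404040404042404040404042424042424240404042424040404040404040424040404242404240424040424042424040404040404040404240404042404042404042424242424040404040404040404042403d4141414141414141414141414141414141414141414141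

/-- The packed dual basis (scaled by 8). -/
def dualP : ℕ := 0x413f3f3f3f3f3f3f3f3f3f3f45454747474545454745470d4042404040404040404040403e403e40403e40403e3e3e4a4040424040404040404040403e3e3e3e403e3e403e40404c404040424040404040404040403e3e3e3e403e3e403e404c40404040424040404040404040403e3e3e3e403e3e403e4c4040404040424040404040404040403e3e3e3e403e3e404a4040404040404240404040403e403e403e403e3e3e40404a4040404040404042404040403e3e3e3e4040403e40403e4a4040404040404040424040403e3e403e3e3e4040403e3e4c404040404040404040424040403e3e403e3e3e4040403e4a4040404040404040404042403e40403e40403e3e3e3e3e4c404040404040404040404042403e40403e40403e3e3e3e4a40404040404040404040404044404040404040404040403c40404040404040404040404040444040404040404040403c40404040404040404040404040404440404040404040403c40404040404040404040404040404044404040404040403c40404040404040404040404040404040444040404040403c40404040404040404040404040404040404440404040403c40404040404040404040404040404040404044404040403c40404040404040404040404040404040404040444040403c40404040404040404040404040404040404040404440403c40404040404040404040404040404040404040404044403c40404040404040404040404040404040404040404040443c404040404040404040404040404040404040404040404048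

theorem isL_basP : ∀ i < 24, isL (get 192 basP i) = true := allLt_iff.1 (by decide +kernel)
theorem isL_dualP : ∀ i < 24, isL (get 192 dualP i) = true := allLt_iff.1 (by decide +kernel)

theorem dual_bas : ∀ i < 24, ∀ j < 24,
    dotInt (vN (get 192 dualP i)) (vN (get 192 basP j)) = if i = j then 8 else 0 := by
  have : allLt 24 (fun i => allLt 24 fun j =>
    dotV (get 192 dualP i) (get 192 basP j) (cnd (Nat.beq i j) 8 0) 0) = true := by decide +kernel
  intro i hi j hj
  rw [dotV_iff.1 (of_allLt (of_allLt this hi) hj)]
  split_ifs with h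
  · rw [h, Nat.beq_refl]; rfl
  · rw [beq_false_of_ne' h]; rfl

theorem bas_dual (p q : GolayPt) :
    ∑ i ∈ range 24, vN (get 192 basP i) p * vN (get 192 dualP i) q = if p = q then 8 else 0 := by
  have : allLt 24 (fun p => allLt 24 fun q => dotIs (fun i => get 8 (get 192 basP i) p)
    (fun i => get 8 (get 192 dualP i) q) (cnd (Nat.beq p q) 8 0) 0) = true := by decide +kernel
  have h := dotIs_iff.1 (of_allLt (of_allLt this (gIdx_lt p)) (gIdx_lt q))
  unfold vN
  rw [h]
  split_ifs with h
  · rw [h, Nat.beq_refl]; rfl
  · rw [beq_false_of_ne' (a := gIdx p) (b := gIdx q) fun e => h (G.idx_inj e)]; rfl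

/-- The basis vectors. -/
noncomputable def bas (i : ℕ) : leechLattice := lv (get 192 basP i)

theorem coe_bas {i : ℕ} (hi : i < 24) : (bas i : GolayPt → ℤ) = vN (get 192 basP i) :=
  coe_lv (isL_basP i hi)

/-- Coordinates with respect to the basis. -/
def coord (x : leechLattice) (i : ℕ) : ℤ := dotInt (vN (get 192 dualP i)) x / 8

theorem eight_coord (x : leechLattice) {i : ℕ} (hi : i < 24) :
    8 * coord x i = dotInt (vN (get 192 dualP i)) x :=
  Int.mul_ediv_cancel' (eight_dvd_dot (mem_of_isL (isL_dualP i hi)) x.2)

theorem coord_add (x y : leechLattice) {i : ℕ} (hi : i < 24) :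
    coord (x + y) i = coord x i + coord y i := by
  have h := eight_coord (x + y) hi
  rw [AddSubgroup.coe_add, dot_add_right, ← eight_coord x hi, ← eight_coord y hi] at h
  omega

/-- A coordinate as an additive map. -/
def coordHom (i : ℕ) (hi : i < 24) : leechLattice →+ ℤ :=
  AddMonoidHom.mk' (fun x => coord x i) fun x y => coord_add x y hi

theorem coord_bas {i j : ℕ} (hi : i < 24) (hj : j < 24) : coord (bas j) i = if i = j then 1 else 0 := by
  rw [coord, coe_bas hj, dual_bas i hi j hj]
  split_ifs <;> rfl

theorem sum_coord (x : leechLattice) : ∑ i ∈ range 24, coord x i • bas i = x := by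
  apply Subtype.ext
  funext p
  rw [AddSubmonoidClass.coe_finsetSum, Finset.sum_apply]
  have h : ∑ i ∈ range 24, 8 * ((coord x i • bas i : leechLattice) : GolayPt → ℤ) p =
      ∑ i ∈ range 24, ∑ q, vN (get 192 basP i) p * vN (get 192 dualP i) q * (x : GolayPt → ℤ) q := by
    refine sum_congr rfl fun i hi => ?_
    have hi := mem_range.1 hi
    rw [AddSubgroup.coe_zsmul, Pi.smul_apply, smul_eq_mul, ← mul_assoc, eight_coord x hi, coe_bas hi,
      dotInt, sum_mul]
    exact sum_congr rfl fun q _ => by ring
  rw [← mul_sum, sum_comm] at h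
  simp only [← sum_mul, bas_dual, ite_mul, zero_mul, sum_ite_eq, mem_univ, if_true] at h
  omega

theorem coord_sum (c : ℕ → ℤ) {j : ℕ} (hj : j < 24) : coord (∑ i ∈ range 24, c i • bas i) j = c j := by
  change coordHom j hj _ = _
  rw [map_sum, sum_eq_single j]
  · rw [map_zsmul]
    change c j • coord (bas j) j = _
    rw [coord_bas hj hj, if_pos rfl, smul_eq_mul, mul_one]
  · intro i hi hij
    rw [map_zsmul]
    change c i • coord (bas i) j = _
    rw [coord_bas hj (mem_range.1 hi), if_neg (Ne.symm hij), smul_zero]
  · intro h; exact absurd (mem_range.2 hj) h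

theorem ext_coord {x y : leechLattice} (h : ∀ i < 24, coord x i = coord y i) : x = y := by
  rw [← sum_coord x, ← sum_coord y]
  exact sum_congr rfl fun i hi => by rw [h i (mem_range.1 hi)]

/-- Additive maps out of the lattice are determined by their values on the basis. -/
theorem hom_ext_bas {M : Type*} [AddCommGroup M] {f g : leechLattice →+ M}
    (h : ∀ i < 24, f (bas i) = g (bas i)) : f = g := by
  ext x
  rw [← sum_coord x, map_sum, map_sum]
  exact sum_congr rfl fun i hi => by rw [map_zsmul, map_zsmul, h i (mem_range.1 hi)]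

/-- Coordinates as an additive equivalence. -/
noncomputable def coordEquiv : leechLattice ≃+ (Fin 24 → ℤ) where
  toFun x i := coord x i
  invFun c := ∑ i ∈ range 24, (if h : i < 24 then c ⟨i, h⟩ else 0) • bas i
  left_inv x := by
    conv_rhs => rw [← sum_coord x]
    exact sum_congr rfl fun i hi => by rw [dif_pos (mem_range.1 hi)]
  right_inv c := by
    funext j
    beta_reduce
    rw [coord_sum _ j.2, dif_pos j.2]
  map_add' x y := funext fun i => coord_add x y i.2

/-- The basis of the lattice. -/
noncomputable def leechBasis : Module.Basis (Fin 24) ℤ leechLattice :=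
  Module.Basis.ofEquivFun coordEquiv.toIntLinearEquiv

theorem leechBasis_apply (j : Fin 24) : leechBasis j = bas j := by
  apply coordEquiv.injective
  funext i
  rw [leechBasis, Module.Basis.coe_ofEquivFun]
  change coordEquiv (coordEquiv.symm _) i = coord (bas j) i
  rw [AddEquiv.apply_symm_apply, coord_bas i.2 j.2, Pi.single_apply]
  simp only [Fin.ext_iff]

theorem index_leech : leechLattice.index = 2 ^ 36 := by
  rw [AddSubgroup.index_eq_natAbs_det ((Pi.basisFun ℤ GolayPt).reindex ptEquiv)
    leechLattice leechBasis, Module.Basis.det_apply]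
  have hM : ∀ i j : Fin 24, ((Pi.basisFun ℤ GolayPt).reindex ptEquiv).toMatrix
      (fun j => (leechBasis j : GolayPt → ℤ)) i j = (get 8 (get 192 basP j) i : ℤ) - 64 := by
    intro i j
    rw [Module.Basis.toMatrix_apply, Module.Basis.repr_reindex_apply, Pi.basisFun_repr,
      leechBasis_apply, coe_bas j.2]
    change (get 8 (get 192 basP j) (gIdx (gPt i)) : ℤ) - 64 = _
    rw [gIdx_gPt i.2]
  rw [Matrix.det_of_isLowerTriangular]
  · simp only [hM]
    decide +kernel
  · intro i j hij
    rw [hM]
    have : ∀ i j : Fin 24, i < j → get 8 (get 192 basP j) i = 64 := by decide +kernel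
    rw [this i j hij]; rfl

end Cfsg.Lib.Leech
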