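import Cfsg.Agent.Lib.Leech.Mono
import Cfsg.Agent.Lib.Leech.GensData

/-!
# The Conway groups and some subgroups as subgroups of `Co0`, with matrices of elements
-/

set_option autoImplicit false

namespace Cfsg.Lib.Leech

open Cfsg.Lib.Calc Cfsg.Lib.F2 Cfsg.Spor MulAction

/-- Inner product of lattice vectors. -/
scoped notation:max "dt(" u ", " x ")" =>
  Cfsg.dotInt ((u : Cfsg.leechLattice) : Cfsg.GolayPt → ℤ) ((x : Cfsg.leechLattice) : Cfsg.GolayPt → ℤ)

/-- Norm of a lattice vector. -/
scoped notation:max "nm(" x ")" => Cfsg.sqNorm ((x : Cfsg.leechLattice) : Cfsg.GolayPt → ℤ)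

theorem coe_leechU : (leechU : GolayPt → ℤ) = vN 0x444040404040404040404040404040404040404040404044 := by decide +kernel
theorem code_leechU : code leechU = 13062144 := (code_of_coe coe_leechU).trans (by decide +kernel)

theorem coe_leechV : (leechV : GolayPt → ℤ) = vN 0x3b3f3f3f3f3f3f3f3f3f3f3f3f3f3f3f3f3f3f3f3f3f3f3f := by decide +kernel
theorem code_leechV : code leechV = 8388609 := (code_of_coe coe_leechV).trans (by decide +kernel)

theorem coe_leechU' : (leechU' : GolayPt → ℤ) = vN 0x44404040404040404040404040404040404040404040403c := by decide +kernel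
theorem code_leechU' : code leechU' = 4673536 := (code_of_coe coe_leechU').trans (by decide +kernel)

/-- `(1, -3, 1^22)` -/
def vW : leechLattice := -(leechU + leechV)
/-- `(1, 5, 1^22)` -/
def vW' : leechLattice := -(leechV + leechU')

theorem coe_vW : (vW : GolayPt → ℤ) = vN 0x41414141414141414141414141414141414141414141413d := by decide +kernel
theorem code_vW : code vW = 4673537 := (code_of_coe coe_vW).trans (by decide +kernel)

theorem coe_vW' : (vW' : GolayPt → ℤ) = vN 0x414141414141414141414141414141414141414141414145 := by decide +kernel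
theorem code_vW' : code vW' = 13062145 := (code_of_coe coe_vW').trans (by decide +kernel)

/-- a minimal vector -/
noncomputable def vXA : leechLattice := lv 0x444040404040404040404040404040404040404040404440
theorem coe_vXA : (vXA : GolayPt → ℤ) = vN 0x444040404040404040404040404040404040404040404440 := coe_lv (by decide +kernel)
theorem code_vXA : code vXA = 4845568 := (code_of_coe coe_vXA).trans (by decide +kernel)

/-- a minimal vector -/
noncomputable def vYA : leechLattice := lv 0x404040404040404040404040404040404040404040444440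
theorem coe_vYA : (vYA : GolayPt → ℤ) = vN 0x404040404040404040404040404040404040404040444440 := coe_lv (by decide +kernel)
theorem code_vYA : code vYA = 1916928 := (code_of_coe coe_vYA).trans (by decide +kernel)

/-- a minimal vector -/
noncomputable def vYB : leechLattice := lv 0x4040404040404040404040404040404040404040403c4440
theorem coe_vYB : (vYB : GolayPt → ℤ) = vN 0x4040404040404040404040404040404040404040403c4440 := coe_lv (by decide +kernel)
theorem code_vYB : code vYB = 10305536 := (code_of_coe coe_vYB).trans (by decide +kernel)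

/-- a minimal vector -/
noncomputable def vXH : leechLattice := lv 0x404040424040424242424240404040404040404040424042
theorem coe_vXH : (vXH : GolayPt → ℤ) = vN 0x404040424040424242424240404040404040404040424042 := coe_lv (by decide +kernel)
theorem code_vXH : code vXH = 12316666 := (code_of_coe coe_vXH).trans (by decide +kernel)

theorem nm_leechU : nm(leechU) = 32 := by rw [coe_leechU]; decide +kernel
theorem nm_leechV : nm(leechV) = 48 := by rw [coe_leechV]; decide +kernel
theorem nm_leechU' : nm(leechU') = 32 := by rw [coe_leechU']; decide +kernel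
theorem nm_vW : nm(vW) = 32 := by rw [coe_vW]; decide +kernel
theorem nm_vW' : nm(vW') = 48 := by rw [coe_vW']; decide +kernel
theorem nm_vXA : nm(vXA) = 32 := by rw [coe_vXA]; decide +kernel
theorem nm_vYA : nm(vYA) = 32 := by rw [coe_vYA]; decide +kernel
theorem nm_vYB : nm(vYB) = 32 := by rw [coe_vYB]; decide +kernel
theorem nm_vXH : nm(vXH) = 32 := by rw [coe_vXH]; decide +kernel

theorem dt_leechU_leechV : dt(leechU, leechV) = -24 := by rw [coe_leechU, coe_leechV]; decide +kernel
theorem dt_leechV_leechU : dt(leechV, leechU) = -24 := by rw [coe_leechV, coe_leechU]; decide +kernel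
theorem dt_leechU_leechU' : dt(leechU, leechU') = 0 := by rw [coe_leechU, coe_leechU']; decide +kernel
theorem dt_leechV_leechU' : dt(leechV, leechU') = -16 := by rw [coe_leechV, coe_leechU']; decide +kernel
theorem dt_leechU_vW : dt(leechU, vW) = -8 := by rw [coe_leechU, coe_vW]; decide +kernel
theorem dt_leechV_vW' : dt(leechV, vW') = -32 := by rw [coe_leechV, coe_vW']; decide +kernel
theorem dt_leechU_vXA : dt(leechU, vXA) = 16 := by rw [coe_leechU, coe_vXA]; decide +kernel
theorem dt_leechV_vXA : dt(leechV, vXA) = -24 := by rw [coe_leechV, coe_vXA]; decide +kernel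
theorem dt_leechV_vXH : dt(leechV, vXH) = -16 := by rw [coe_leechV, coe_vXH]; decide +kernel
theorem dt_leechU'_vXH : dt(leechU', vXH) = -8 := by rw [coe_leechU', coe_vXH]; decide +kernel
theorem dt_vW_leechU' : dt(vW, leechU') = 16 := by rw [coe_vW, coe_leechU']; decide +kernel
theorem dt_leechV_vYA : dt(leechV, vYA) = -8 := by rw [coe_leechV, coe_vYA]; decide +kernel
theorem dt_leechV_vYB : dt(leechV, vYB) = 0 := by rw [coe_leechV, coe_vYB]; decide +kernel

/-- `Co₂` inside `Co0`. -/
abbrev co2 : Subgroup Co0 := stabilizer Co0 leechU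
/-- `Co₃` inside `Co0`. -/
abbrev co3 : Subgroup Co0 := stabilizer Co0 leechV
/-- `McL` inside `Co0`. -/
abbrev mcl : Subgroup Co0 := co3 ⊓ co2
/-- `HS` inside `Co0`. -/
abbrev hs : Subgroup Co0 := co3 ⊓ stabilizer Co0 leechU'
/-- `M22` inside `Co0`. -/
abbrev m22 : Subgroup Co0 := hs ⊓ co2
/-- `U₄(3)` inside `Co0`. -/
noncomputable abbrev u43 : Subgroup Co0 := mcl ⊓ stabilizer Co0 vXA
/-- `U₆(2)` inside `Co0`. -/
noncomputable abbrev u62 : Subgroup Co0 := co2 ⊓ stabilizer Co0 vXA
/-- `U₃(5)` inside `Co0`. -/
noncomputable abbrev u35 : Subgroup Co0 := hs ⊓ stabilizer Co0 vXH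

theorem chk_gen0 : chkY 0x3c40404040404040404040404040404040404040444444403e404040403e40404240404040404040403e403e424242403e4042404040403e404040403e3e404040404040424242403e403e404040403e40404040423e404040404040424242403e40404040403e40403e40404040404040403e40424242423e40404040403e40403e404040404040404042404242423e3e4040403e40404040403e4240403e4040404040424242403e40404040403e40404240404040404040403e404242423e3e403e4040404042404040403e3e404040404040424242403e404040404240403e40404040404040403e403e424242403e403e404040403e404040403e42404040404040424242403e4040403e40404040403e3e4040424040404040424242403f3f3f413f3f3f3f41413f413d3f3f3f3f3f3f3f4141413f3f3f3f3f3f413f3f3f413f3f3f3d41413f3f3f3f4141413f404040403e403e3e40404040403e3e40403e3e3e4040404040403e4040403e3e403e40403e3e404040403e404040403e40403e403e403e403e3e3e40403e40404040403e404040404040404040403e40403e40403e3e4040403e403e424042403f413f3f3f413f3d3f3f3f413f3f3f3f3f3f413f4141413f40403e403e403e3e40403e404040404040403e4040424240404040403e3e3e3e403e3e403e404040403e4040404040403f3f3d3f3f3f3f3f413f3f3f3f3f413f413f413f4141413f40403e4040403e4040403e3e3e404040403e3e3e40404040433f3f3f3f3f3f3f3f3f3f3f3f3f3f3f3f3f3f3f3f3f3f3f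
  0xf3700044305e6c3c0eaf9c0ef01fd0812fd0cc920e370fd04d3c0e40b05efdec0eb7c20e4c380f37970f4fb6700803de911410b18c5affd02fc9b026e088408182af7fe870000001 = true := by decide +kernel

theorem chk_gen1 : chkY 0x403c40403c4040404040403c40404040404040404040403c403e40403e40403e4040403e404042404040403e4240403e403c40403c40404040404040404040404040404040404040403e403e3e4042404040403e404040404040404040423e3e423e40403e4040404040423e42404040404240404040403e403e40403e4040424040403e40404240404040424240403e403e3e403e4040404042403e403e4040424040404040403e403e40403e3e40403e40403e40404042404042404040403e403e3e403e404040403e403e403e40403e4040404040403e403e42403e404040403e403e403e4040424040404040403e403e40403e4040424040403e404042404040403e3e40403e403e40403e3e40404240403e4040403e404042404040403e403e3e403e3e404040404040403e42424040403e40404040403e40403e3e4240403e4040403e40404040424040403e40413f3f3f3f3f413f3f3f4141413f41414341413f41413f41413f3f3f3f3f41433f3f4141413f41413f41413f41413f41413f3f3f413f4141413f413f413d413f4141414141413f41403e40403e404040403e4240403e42404042404042404040403e40403e40404240404040403e42404240404040423e40413f3f3f3f3f41414141413f413f41414141433f3f413f3f413f3f413f3f414141414141413f433f4141413f414141413f3f3f3f3f3f4141413f3f3f413f433f3f41413f41413f3f40404040403e4040403e4240423e42404040423e404040403f413f41413f4141413f4141413f41414141413f41413f43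
  0x8f400017fde6c80000ecbff81777be0dcde676bb7ec35edee82b7e56fb7e78cde6fe7ede6c17108594220534931ae4933871032646485f0686351bc5d1b711e1986d665e30624bed = true := by decide +kernel

theorem good_co0 : ∀ C ∈ co0L, Good 24 code (⊤ : Subgroup Co0) C := by
  simp only [co0L, List.forall_mem_cons, List.not_mem_nil, false_imp_iff, implies_true, and_true]
  exact ⟨good_of_chkY chk_gen0, good_of_chkY chk_gen1⟩

theorem fix_of_allL {L : List ℕ} {c : ℕ} (h : allL L (fun C => Nat.beq (app 24 C c) c) = true) :
    ∀ C ∈ L, app 24 C c = c := fun C hC => beq_iff.1 (allL_iff.1 h C hC)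

theorem good_co2 : ∀ C ∈ co2L, Good 24 code co2 C := fun C hC =>
  good_stab (good_of_slpHas code_lt good_co0 slp_co2 C hC) (by rw [nm_leechU]; norm_num)
    (by rw [code_leechU]; exact fix_of_allL (by decide +kernel) C hC)

theorem good_co3 : ∀ C ∈ co3L, Good 24 code co3 C := fun C hC =>
  good_stab (good_of_slpHas code_lt good_co0 slp_co3 C hC) (by rw [nm_leechV]; norm_num)
    (by rw [code_leechV]; exact fix_of_allL (by decide +kernel) C hC)

theorem good_mcl : ∀ C ∈ mclL, Good 24 code mcl C := fun C hC =>
  good_stab_inf (u := leechV) le_rfl (good_of_slpHas code_lt good_co3 slp_mcl C hC) (by rw [nm_leechU]; norm_num)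
    (by rw [dt_leechV_leechU]; norm_num) (by rw [code_leechU]; exact fix_of_allL (by decide +kernel) C hC)

theorem good_hs : ∀ C ∈ hsL, Good 24 code hs C := fun C hC =>
  good_stab_inf (u := leechV) le_rfl (good_of_slpHas code_lt good_co3 slp_hs C hC) (by rw [nm_leechU']; norm_num)
    (by rw [dt_leechV_leechU']; norm_num) (by rw [code_leechU']; exact fix_of_allL (by decide +kernel) C hC)

theorem good_m22 : ∀ C ∈ m22L, Good 24 code m22 C := fun C hC =>
  good_stab_inf (u := leechV) inf_le_left (good_of_slpHas code_lt good_hs slp_m22 C hC) (by rw [nm_leechU]; norm_num)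
    (by rw [dt_leechV_leechU]; norm_num) (by rw [code_leechU]; exact fix_of_allL (by decide +kernel) C hC)

theorem good_u43 : ∀ C ∈ u43L, Good 24 code u43 C := fun C hC =>
  good_stab_inf (u := leechV) inf_le_left (good_of_slpHas code_lt good_mcl slp_u43 C hC) (by rw [nm_vXA]; norm_num)
    (by rw [dt_leechV_vXA]; norm_num) (by rw [code_vXA]; exact fix_of_allL (by decide +kernel) C hC)

theorem good_u62 : ∀ C ∈ u62L, Good 24 code u62 C := fun C hC =>
  good_stab_inf (u := leechU) le_rfl (good_of_slpHas code_lt good_co2 slp_u62 C hC) (by rw [nm_vXA]; norm_num)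
    (by rw [dt_leechU_vXA]; norm_num) (by rw [code_vXA]; exact fix_of_allL (by decide +kernel) C hC)

theorem good_u35 : ∀ C ∈ u35L, Good 24 code u35 C := fun C hC =>
  good_stab_inf (u := leechV) inf_le_left (good_of_slpHas code_lt good_hs slp_u35 C hC) (by rw [nm_vXH]; norm_num)
    (by rw [dt_leechV_vXH]; norm_num) (by rw [code_vXH]; exact fix_of_allL (by decide +kernel) C hC)

theorem orb_ge {H : Subgroup Co0} {L : List ℕ} (hL : ∀ C ∈ L, Good 24 code H C) {x : leechLattice}
    {n c : ℕ} (hx : code x = c) {prog Is Ks : List ℕ} (h : orbChk 24 n c L prog Is Ks = true) :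
    n + 1 ≤ (orbit H x).ncard :=
  (orbit_lower code_lt hx hL h).trans (Set.ncard_image_le (Set.finite_range _))

theorem orb_one (H : Subgroup Co0) (x : leechLattice) : 1 ≤ (orbit H x).ncard :=
  (Set.ncard_pos (Set.finite_range _)).2 (nonempty_orbit x)

theorem orbit_neg (H : Subgroup Co0) (x : leechLattice) : orbit H (-x) = -orbit H x := by
  ext y
  rw [Set.mem_neg]
  constructor
  · rintro ⟨g, rfl⟩; exact ⟨g, by simp [Subgroup.smul_def]⟩
  · rintro ⟨g, hg⟩
    refine ⟨g, ?_⟩
    simp only [Subgroup.smul_def, smul_neg] at hg ⊢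
    rw [hg, neg_neg]

theorem orb_ge_neg {H : Subgroup Co0} {x : leechLattice} {n : ℕ} (h : n ≤ (orbit H x).ncard) :
    n ≤ (orbit H (-x)).ncard := by rwa [orbit_neg, Set.ncard_neg]

theorem two_mul_ncard_code_le {S : Set leechLattice} (hS : S.Finite) (h0 : (0 : leechLattice) ∉ S)
    (hneg : ∀ x ∈ S, -x ∈ S) : 2 * (code '' S).ncard ≤ S.ncard := by
  classical
  obtain ⟨T, rfl⟩ := hS.exists_finset_coe
  rw [← Finset.coe_image, Set.ncard_coe_finset, Set.ncard_coe_finset]
  refine Finset.mul_card_image_le_card T 2 fun c hc => ?_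
  obtain ⟨x, hx, rfl⟩ := Finset.mem_image.1 hc
  have hne : x ≠ -x := fun h => h0 (by
    have : x = 0 := Subtype.ext (funext fun i => by
      have := congrArg (fun v : leechLattice => (v : GolayPt → ℤ) i) h
      simp only [AddSubgroup.coe_neg, Pi.neg_apply] at this
      change _ = (0 : ℤ)
      omega)
    rwa [this] at hx)
  rw [← Finset.card_pair hne]
  refine Finset.card_le_card ?_
  simp only [Finset.insert_subset_iff, Finset.singleton_subset_iff, Finset.mem_filter, code_neg, and_true]
  exact ⟨hx, hneg x hx⟩

theorem orb_ge_two {H : Subgroup Co0} {L : List ℕ} (hL : ∀ C ∈ L, Good 24 code H C) {x : leechLattice}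
    {n c : ℕ} (hx : code x = c) {prog Is Ks : List ℕ} (h : orbChk 24 n c L prog Is Ks = true)
    (h0 : nm(x) ≠ 0) (hneg : -x ∈ orbit H x) : 2 * (n + 1) ≤ (orbit H x).ncard := by
  refine (Nat.mul_le_mul_left 2 (orbit_lower code_lt hx hL h)).trans
    (two_mul_ncard_code_le (Set.finite_range _) ?_ fun y hy => ?_)
  · rintro ⟨g, hg⟩
    apply h0
    rw [← sqNorm_smul g x, show (g : Co0) • x = 0 from hg]
    simp [sqNorm]
  · rw [← orbit_eq_iff.2 hneg, orbit_neg]
    simpa using hy

theorem neg_mem_orbit {H : Subgroup Co0} {u : leechLattice} (hH : H ≤ stabilizer Co0 u) {C : ℕ}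
    (h : Good 24 code H C) {y a b : leechLattice} (hy : nm(y) < 64) (ha : nm(a) ≤ 64) (hb : nm(b) < 64)
    (e1 : app 24 C (code y) = code y) (e2 : app 24 C (code a) = code b)
    (d1 : dt(u, a) ≠ -dt(u, b)) (d2 : dt(y, b) ≠ dt(y, a)) : -y ∈ orbit H y := by
  obtain ⟨g, hg, hr⟩ := h
  have h1 := smul_eq_of_code (hH hg) ha hb d1 ((hr a).trans e2)
  rcases eq_or_neg_of_code (y := g • y) hy (by rw [sqNorm_smul]; exact hy.le) ((hr y).trans e1).symm with h | h
  · have := dot_smul g y a
    rw [h, h1] at this
    exact absurd this d2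
  · exact ⟨⟨g, hg⟩, h⟩

/-- a minimal vector -/
noncomputable def waU1 : leechLattice := lv 0x404040404040404040404040404040404040404040404444
theorem coe_waU1 : (waU1 : GolayPt → ℤ) = vN 0x404040404040404040404040404040404040404040404444 := coe_lv (by decide +kernel)
theorem code_waU1 : code waU1 = 958464 := (code_of_coe coe_waU1).trans (by decide +kernel)

/-- a minimal vector -/
noncomputable def wbU1 : leechLattice := lv 0x444040404040404040404040404040403c40404040404040
theorem coe_wbU1 : (wbU1 : GolayPt → ℤ) = vN 0x444040404040404040404040404040403c40404040404040 := coe_lv (by decide +kernel)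
theorem code_wbU1 : code wbU1 = 10407936 := (code_of_coe coe_wbU1).trans (by decide +kernel)

theorem neg_mem_orbit_U1 : -leechU' ∈ orbit co2 leechU' :=
  neg_mem_orbit (u := leechU) (a := waU1) (b := wbU1) le_rfl
    (good_of_slpHas code_lt good_co2 slp_negU1 _ List.mem_cons_self)
    (by rw [nm_leechU']; norm_num) (by rw [coe_waU1]; decide +kernel) (by rw [coe_wbU1]; decide +kernel)
    (by rw [code_leechU']; decide +kernel) (by rw [code_waU1, code_wbU1]; decide +kernel)
    (by rw [coe_leechU, coe_waU1, coe_wbU1]; decide +kernel)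
    (by rw [coe_leechU', coe_waU1, coe_wbU1]; decide +kernel)

/-- a minimal vector -/
noncomputable def waYB : leechLattice := lv 0x404040404040404040404040404040404040404040404444
theorem coe_waYB : (waYB : GolayPt → ℤ) = vN 0x404040404040404040404040404040404040404040404444 := coe_lv (by decide +kernel)
theorem code_waYB : code waYB = 958464 := (code_of_coe coe_waYB).trans (by decide +kernel)

/-- a minimal vector -/
noncomputable def wbYB : leechLattice := lv 0x40424042424042404040403e404040404040404040423e42
theorem coe_wbYB : (wbYB : GolayPt → ℤ) = vN 0x40424042424042404040403e404040404040404040423e42 := coe_lv (by decide +kernel)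
theorem code_wbYB : code wbYB = 7598072 := (code_of_coe coe_wbYB).trans (by decide +kernel)

theorem neg_mem_orbit_YB : -vYB ∈ orbit co3 vYB :=
  neg_mem_orbit (u := leechV) (a := waYB) (b := wbYB) le_rfl
    (good_of_slpHas code_lt good_co3 slp_negYB _ List.mem_cons_self)
    (by rw [nm_vYB]; norm_num) (by rw [coe_waYB]; decide +kernel) (by rw [coe_wbYB]; decide +kernel)
    (by rw [code_vYB]; decide +kernel) (by rw [code_waYB, code_wbYB]; decide +kernel)
    (by rw [coe_leechV, coe_waYB, coe_wbYB]; decide +kernel)
    (by rw [coe_vYB, coe_waYB, coe_wbYB]; decide +kernel)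

end Cfsg.Lib.Leech
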