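import Cfsg.Agent.Lib.Leech.Gens
import Cfsg.Agent.Lib.Leech.CertMcL
import Cfsg.Agent.Lib.Leech.CertHS

/-!
# Orbit representatives for `McL`, `HS`, `M22`, `U₄(3)` on sets of minimal vectors
-/

set_option autoImplicit false
set_option linter.unusedSimpArgs false

namespace Cfsg.Lib.Leech

open Cfsg.Lib.Calc Cfsg.Lib.F2 Cfsg.Spor MulAction

/-- Minimal vectors with a given inner product with `u`. -/
abbrev T1 (u : leechLattice) (k : ℤ) : Set leechLattice := {x | x ∈ shell 32 ∧ dt(u, x) = k}
/-- Minimal vectors with given inner products with `u`, `v`. -/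
abbrev T2 (u : leechLattice) (k : ℤ) (v : leechLattice) (l : ℤ) : Set leechLattice := {x | x ∈ T1 u k ∧ dt(v, x) = l}
/-- Minimal vectors with given inner products with `u`, `v`, `w`. -/
abbrev T3 (u : leechLattice) (k : ℤ) (v : leechLattice) (l : ℤ) (w : leechLattice) (m : ℤ) : Set leechLattice :=
  {x | x ∈ T2 u k v l ∧ dt(w, x) = m}

theorem rep_ok {A B C : Prop} (h : A ∧ B) (h' : C) : A ∧ B ∧ C := ⟨h.1, h.2, h'⟩

/-- a minimal vector -/
noncomputable def r0 : leechLattice := lv 0x3d3f3f3f3f3f3f3f3f413f414141413f3f3f3f3f413f3f41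
theorem coe_r0 : (r0 : GolayPt → ℤ) = vN 0x3d3f3f3f3f3f3f3f3f413f414141413f3f3f3f3f413f3f41 := coe_lv (by decide +kernel)
theorem code_r0 : code r0 = 6488567 := (code_of_coe coe_r0).trans (by decide +kernel)

/-- a minimal vector -/
noncomputable def r1 : leechLattice := lv 0x424240424042404042404242404040404040404040424040
theorem coe_r1 : (r1 : GolayPt → ℤ) = vN 0x424240424042404042404242404040404040404040424040 := coe_lv (by decide +kernel)
theorem code_r1 : code r1 = 4 := (code_of_coe coe_r1).trans (by decide +kernel)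

/-- a minimal vector -/
noncomputable def r2 : leechLattice := lv 0x3f3f413f413f41413f413f3f4141414141414141413f413d
theorem coe_r2 : (r2 : GolayPt → ℤ) = vN 0x3f3f413f413f41413f413f3f4141414141414141413f413d := coe_lv (by decide +kernel)
theorem code_r2 : code r2 = 4673541 := (code_of_coe coe_r2).trans (by decide +kernel)

/-- a minimal vector -/
noncomputable def r3 : leechLattice := lv 0x3d4141414141414141414141414141414141414141414141
theorem coe_r3 : (r3 : GolayPt → ℤ) = vN 0x3d4141414141414141414141414141414141414141414141 := coe_lv (by decide +kernel)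
theorem code_r3 : code r3 = 1 := (code_of_coe coe_r3).trans (by decide +kernel)

/-- a minimal vector -/
noncomputable def r4 : leechLattice := lv 0x3e424042404240404240423e404040404040404040424040
theorem coe_r4 : (r4 : GolayPt → ℤ) = vN 0x3e424042404240404240423e404040404040404040424040 := coe_lv (by decide +kernel)
theorem code_r4 : code r4 = 4100 := (code_of_coe coe_r4).trans (by decide +kernel)

/-- a minimal vector -/
noncomputable def r5 : leechLattice := lv 0x3e424042404240403e403e3e404040404040404040424040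
theorem coe_r5 : (r5 : GolayPt → ℤ) = vN 0x3e424042404240403e403e3e404040404040404040424040 := coe_lv (by decide +kernel)
theorem code_r5 : code r5 = 8433668 := (code_of_coe coe_r5).trans (by decide +kernel)

/-- a minimal vector -/
noncomputable def r6 : leechLattice := lv 0x444040404040404040404040404040404040404040403c40
theorem coe_r6 : (r6 : GolayPt → ℤ) = vN 0x444040404040404040404040404040404040404040403c40 := coe_lv (by decide +kernel)
theorem code_r6 : code r6 = 13234176 := (code_of_coe coe_r6).trans (by decide +kernel)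

/-- a minimal vector -/
noncomputable def r7 : leechLattice := lv 0x4242404040424242403e403e404040404040404040404042
theorem coe_r7 : (r7 : GolayPt → ℤ) = vN 0x4242404040424242403e403e404040404040404040404042 := coe_lv (by decide +kernel)
theorem code_r7 : code r7 = 16756734 := (code_of_coe coe_r7).trans (by decide +kernel)

/-- a minimal vector -/
noncomputable def r8 : leechLattice := lv 0x424240424042404042403e3e404040404040404040424040
theorem coe_r8 : (r8 : GolayPt → ℤ) = vN 0x424240424042404042403e3e404040404040404040424040 := coe_lv (by decide +kernel)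
theorem code_r8 : code r8 = 8400900 := (code_of_coe coe_r8).trans (by decide +kernel)

/-- a minimal vector -/
noncomputable def r9 : leechLattice := lv 0x404240404240404242424242404040404040404040404240
theorem coe_r9 : (r9 : GolayPt → ℤ) = vN 0x404240404240404242424242404040404040404040404240 := coe_lv (by decide +kernel)
theorem code_r9 : code r9 = 2 := (code_of_coe coe_r9).trans (by decide +kernel)

/-- a minimal vector -/
noncomputable def r10 : leechLattice := lv 0x423e4040404242424042404240404040404040404040403e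
theorem coe_r10 : (r10 : GolayPt → ℤ) = vN 0x423e4040404242424042404240404040404040404040403e := coe_lv (by decide +kernel)
theorem code_r10 : code r10 = 7909374 := (code_of_coe coe_r10).trans (by decide +kernel)

/-- a minimal vector -/
noncomputable def r11 : leechLattice := lv 0x414141414141413f414141413f3f3f3f4141413f4141433f
theorem coe_r11 : (r11 : GolayPt → ℤ) = vN 0x414141414141413f414141413f3f3f3f4141413f4141433f := coe_lv (by decide +kernel)
theorem code_r11 : code r11 = 3342573 := (code_of_coe coe_r11).trans (by decide +kernel)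

/-- a minimal vector -/
noncomputable def r12 : leechLattice := lv 0x3f3f3f3f3f3f3f3f3f3f3f3f3f3f3f3f3f3f3f3f3f3f433f
theorem coe_r12 : (r12 : GolayPt → ℤ) = vN 0x3f3f3f3f3f3f3f3f3f3f3f3f3f3f3f3f3f3f3f3f3f3f433f := coe_lv (by decide +kernel)
theorem code_r12 : code r12 = 13234177 := (code_of_coe coe_r12).trans (by decide +kernel)

/-- a minimal vector -/
noncomputable def r13 : leechLattice := lv 0x3e3e4040403e3e3e403e403e40404040404040404040403e
theorem coe_r13 : (r13 : GolayPt → ℤ) = vN 0x3e3e4040403e3e3e403e403e40404040404040404040403e := coe_lv (by decide +kernel)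
theorem code_r13 : code r13 = 8388606 := (code_of_coe coe_r13).trans (by decide +kernel)

/-- a minimal vector -/
noncomputable def r14 : leechLattice := lv 0x3c40404040404040404040404040404040404040403c4040
theorem coe_r14 : (r14 : GolayPt → ℤ) = vN 0x3c40404040404040404040404040404040404040403c4040 := coe_lv (by decide +kernel)
theorem code_r14 : code r14 = 13938688 := (code_of_coe coe_r14).trans (by decide +kernel)

/-- representatives and lengths of orbits -/
noncomputable def mcl_a_L : List (ℤ × leechLattice × ℕ) :=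
  [(-32, (-leechU), 1), (8, (-vW), 1), (-8, r0, 275), (-16, (-vXA), 275)]

theorem mcl_a_reps : ∀ t ∈ mcl_a_L, t.2.1 ∈ T1 leechV 24 ∧ dt(leechU, t.2.1) = t.1 ∧ t.2.2 ≤ (orbit mcl t.2.1).ncard := by
  simp only [mcl_a_L, List.forall_mem_cons, List.not_mem_nil, false_imp_iff, implies_true, and_true]
  exact ⟨rep_ok (by simp only [T1, T2, Set.mem_setOf_eq, AddSubgroup.coe_neg, coe_leechU, coe_leechU', coe_leechV, coe_vW, coe_vXA]; decide +kernel) (orb_one _ _),
    rep_ok (by simp only [T1, T2, Set.mem_setOf_eq, AddSubgroup.coe_neg, coe_leechU, coe_leechU', coe_leechV, coe_vW, coe_vXA]; decide +kernel) (orb_one _ _),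
    rep_ok (by simp only [T1, T2, Set.mem_setOf_eq, AddSubgroup.coe_neg, coe_leechU, coe_leechU', coe_leechV, coe_r0, coe_vW, coe_vXA]; decide +kernel) (orb_ge good_mcl code_r0 cert_mcl_a_m8),
    rep_ok (by simp only [T1, T2, Set.mem_setOf_eq, AddSubgroup.coe_neg, coe_leechU, coe_leechU', coe_leechV, coe_vW, coe_vXA]; decide +kernel) (orb_ge_neg (orb_ge good_mcl code_vXA cert_mcl_a_m16))⟩

/-- representatives and lengths of orbits -/
noncomputable def mcl_b_L : List (ℤ × leechLattice × ℕ) :=
  [(8, r1, 275), (-16, r2, 275), (0, leechU', 2025), (-8, r3, 2025)]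

theorem mcl_b_reps : ∀ t ∈ mcl_b_L, t.2.1 ∈ T1 vW 16 ∧ dt(leechU, t.2.1) = t.1 ∧ t.2.2 ≤ (orbit mcl t.2.1).ncard := by
  simp only [mcl_b_L, List.forall_mem_cons, List.not_mem_nil, false_imp_iff, implies_true, and_true]
  exact ⟨rep_ok (by simp only [T1, T2, Set.mem_setOf_eq, AddSubgroup.coe_neg, coe_leechU, coe_leechU', coe_leechV, coe_r1, coe_vW, coe_vXA]; decide +kernel) (orb_ge good_mcl code_r1 cert_mcl_b_p8),
    rep_ok (by simp only [T1, T2, Set.mem_setOf_eq, AddSubgroup.coe_neg, coe_leechU, coe_leechU', coe_leechV, coe_r2, coe_vW, coe_vXA]; decide +kernel) (orb_ge good_mcl code_r2 cert_mcl_b_m16),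
    rep_ok (by simp only [T1, T2, Set.mem_setOf_eq, AddSubgroup.coe_neg, coe_leechU, coe_leechU', coe_leechV, coe_vW, coe_vXA]; decide +kernel) (orb_ge good_mcl code_leechU' cert_mcl_b_p0),
    rep_ok (by simp only [T1, T2, Set.mem_setOf_eq, AddSubgroup.coe_neg, coe_leechU, coe_leechU', coe_leechV, coe_r3, coe_vW, coe_vXA]; decide +kernel) (orb_ge good_mcl code_r3 cert_mcl_b_m8)⟩

/-- representatives and lengths of orbits -/
noncomputable def mcl_c_L : List (ℤ × leechLattice × ℕ) :=
  [(32, vW, 1), (-16, r0, 275), (16, r3, 2025), (-8, (-vXH), 7128), (8, r4, 15400), (0, r5, 22275)]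

theorem mcl_c_reps : ∀ t ∈ mcl_c_L, t.2.1 ∈ T1 leechU (-8) ∧ dt(vW, t.2.1) = t.1 ∧ t.2.2 ≤ (orbit mcl t.2.1).ncard := by
  simp only [mcl_c_L, List.forall_mem_cons, List.not_mem_nil, false_imp_iff, implies_true, and_true]
  exact ⟨rep_ok (by simp only [T1, T2, Set.mem_setOf_eq, AddSubgroup.coe_neg, coe_leechU, coe_leechU', coe_leechV, coe_vW, coe_vXA]; decide +kernel) (orb_one _ _),
    rep_ok (by simp only [T1, T2, Set.mem_setOf_eq, AddSubgroup.coe_neg, coe_leechU, coe_leechU', coe_leechV, coe_r0, coe_vW, coe_vXA]; decide +kernel) (orb_ge good_mcl code_r0 cert_mcl_c_m16),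
    rep_ok (by simp only [T1, T2, Set.mem_setOf_eq, AddSubgroup.coe_neg, coe_leechU, coe_leechU', coe_leechV, coe_r3, coe_vW, coe_vXA]; decide +kernel) (orb_ge good_mcl code_r3 cert_mcl_c_p16),
    rep_ok (by simp only [T1, T2, Set.mem_setOf_eq, AddSubgroup.coe_neg, coe_leechU, coe_leechU', coe_leechV, coe_vW, coe_vXA, coe_vXH]; decide +kernel) (orb_ge_neg (orb_ge good_mcl code_vXH cert_mcl_c_m8)),
    rep_ok (by simp only [T1, T2, Set.mem_setOf_eq, AddSubgroup.coe_neg, coe_leechU, coe_leechU', coe_leechV, coe_r4, coe_vW, coe_vXA]; decide +kernel) (orb_ge good_mcl code_r4 cert_mcl_c_p8),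
    rep_ok (by simp only [T1, T2, Set.mem_setOf_eq, AddSubgroup.coe_neg, coe_leechU, coe_leechU', coe_leechV, coe_r5, coe_vW, coe_vXA]; decide +kernel) (orb_ge good_mcl code_r5 cert_mcl_c_p0)⟩

/-- representatives and lengths of orbits -/
noncomputable def hs_a_L : List (ℤ × leechLattice × ℕ) :=
  [(-16, (-vW), 100), (0, (-leechU), 100), (-8, (-r1), 352)]

theorem hs_a_reps : ∀ t ∈ hs_a_L, t.2.1 ∈ T1 leechV 24 ∧ dt(leechU', t.2.1) = t.1 ∧ t.2.2 ≤ (orbit hs t.2.1).ncard := by
  simp only [hs_a_L, List.forall_mem_cons, List.not_mem_nil, false_imp_iff, implies_true, and_true]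
  exact ⟨rep_ok (by simp only [T1, T2, Set.mem_setOf_eq, AddSubgroup.coe_neg, coe_leechU, coe_leechU', coe_leechV, coe_vW, coe_vXA]; decide +kernel) (orb_ge_neg (orb_ge good_hs code_vW cert_hs_a_m16)),
    rep_ok (by simp only [T1, T2, Set.mem_setOf_eq, AddSubgroup.coe_neg, coe_leechU, coe_leechU', coe_leechV, coe_vW, coe_vXA]; decide +kernel) (orb_ge_neg (orb_ge good_hs code_leechU cert_hs_a_p0)),
    rep_ok (by simp only [T1, T2, Set.mem_setOf_eq, AddSubgroup.coe_neg, coe_leechU, coe_leechU', coe_leechV, coe_r1, coe_vW, coe_vXA]; decide +kernel) (orb_ge_neg (orb_ge good_hs code_r1 cert_hs_a_m8))⟩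

/-- representatives and lengths of orbits -/
noncomputable def hs_b_L : List (ℤ × leechLattice × ℕ) :=
  [(32, leechU', 1), (-8, vXH, 352), (16, r6, 1100), (0, r7, 4125), (8, r8, 5600)]

theorem hs_b_reps : ∀ t ∈ hs_b_L, t.2.1 ∈ T1 leechV (-16) ∧ dt(leechU', t.2.1) = t.1 ∧ t.2.2 ≤ (orbit hs t.2.1).ncard := by
  simp only [hs_b_L, List.forall_mem_cons, List.not_mem_nil, false_imp_iff, implies_true, and_true]
  exact ⟨rep_ok (by simp only [T1, T2, Set.mem_setOf_eq, AddSubgroup.coe_neg, coe_leechU, coe_leechU', coe_leechV, coe_vW, coe_vXA]; decide +kernel) (orb_one _ _),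
    rep_ok (by simp only [T1, T2, Set.mem_setOf_eq, AddSubgroup.coe_neg, coe_leechU, coe_leechU', coe_leechV, coe_vW, coe_vXA, coe_vXH]; decide +kernel) (orb_ge good_hs code_vXH cert_hs_b_m8),
    rep_ok (by simp only [T1, T2, Set.mem_setOf_eq, AddSubgroup.coe_neg, coe_leechU, coe_leechU', coe_leechV, coe_r6, coe_vW, coe_vXA]; decide +kernel) (orb_ge good_hs code_r6 cert_hs_b_p16),
    rep_ok (by simp only [T1, T2, Set.mem_setOf_eq, AddSubgroup.coe_neg, coe_leechU, coe_leechU', coe_leechV, coe_r7, coe_vW, coe_vXA]; decide +kernel) (orb_ge good_hs code_r7 cert_hs_b_p0),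
    rep_ok (by simp only [T1, T2, Set.mem_setOf_eq, AddSubgroup.coe_neg, coe_leechU, coe_leechU', coe_leechV, coe_r8, coe_vW, coe_vXA]; decide +kernel) (orb_ge good_hs code_r8 cert_hs_b_p8)⟩

/-- representatives and lengths of orbits -/
noncomputable def m22_a_L : List (ℤ × leechLattice × ℕ) :=
  [(32, leechU', 1), (0, r9, 330), (16, r10, 462), (8, r11, 1232)]

theorem m22_a_reps : ∀ t ∈ m22_a_L, t.2.1 ∈ T2 vW 16 leechU 0 ∧ dt(leechU', t.2.1) = t.1 ∧ t.2.2 ≤ (orbit m22 t.2.1).ncard := by
  simp only [m22_a_L, List.forall_mem_cons, List.not_mem_nil, false_imp_iff, implies_true, and_true]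
  exact ⟨rep_ok (by simp only [T1, T2, Set.mem_setOf_eq, AddSubgroup.coe_neg, coe_leechU, coe_leechU', coe_leechV, coe_vW, coe_vXA]; decide +kernel) (orb_one _ _),
    rep_ok (by simp only [T1, T2, Set.mem_setOf_eq, AddSubgroup.coe_neg, coe_leechU, coe_leechU', coe_leechV, coe_r9, coe_vW, coe_vXA]; decide +kernel) (orb_ge good_m22 code_r9 cert_m22_a_p0),
    rep_ok (by simp only [T1, T2, Set.mem_setOf_eq, AddSubgroup.coe_neg, coe_leechU, coe_leechU', coe_leechV, coe_r10, coe_vW, coe_vXA]; decide +kernel) (orb_ge good_m22 code_r10 cert_m22_a_p16),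
    rep_ok (by simp only [T1, T2, Set.mem_setOf_eq, AddSubgroup.coe_neg, coe_leechU, coe_leechU', coe_leechV, coe_r11, coe_vW, coe_vXA]; decide +kernel) (orb_ge good_m22 code_r11 cert_m22_a_p8)⟩

/-- representatives and lengths of orbits -/
noncomputable def m22_b_L : List (ℤ × leechLattice × ℕ) :=
  [(-32, (-leechU), 1), (-8, r12, 22), (-16, r13, 77)]

theorem m22_b_reps : ∀ t ∈ m22_b_L, t.2.1 ∈ T2 leechV 24 leechU' 0 ∧ dt(leechU, t.2.1) = t.1 ∧ t.2.2 ≤ (orbit m22 t.2.1).ncard := by
  simp only [m22_b_L, List.forall_mem_cons, List.not_mem_nil, false_imp_iff, implies_true, and_true]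
  exact ⟨rep_ok (by simp only [T1, T2, Set.mem_setOf_eq, AddSubgroup.coe_neg, coe_leechU, coe_leechU', coe_leechV, coe_vW, coe_vXA]; decide +kernel) (orb_one _ _),
    rep_ok (by simp only [T1, T2, Set.mem_setOf_eq, AddSubgroup.coe_neg, coe_leechU, coe_leechU', coe_leechV, coe_r12, coe_vW, coe_vXA]; decide +kernel) (orb_ge good_m22 code_r12 cert_m22_b_m8),
    rep_ok (by simp only [T1, T2, Set.mem_setOf_eq, AddSubgroup.coe_neg, coe_leechU, coe_leechU', coe_leechV, coe_r13, coe_vW, coe_vXA]; decide +kernel) (orb_ge good_m22 code_r13 cert_m22_b_m16)⟩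

/-- representatives and lengths of orbits -/
noncomputable def u43_a_L : List (ℤ × leechLattice × ℕ) :=
  [(-32, (-vXA), 1), (-8, r13, 112), (-16, r14, 162)]

theorem u43_a_reps : ∀ t ∈ u43_a_L, t.2.1 ∈ T2 leechV 24 leechU (-16) ∧ dt(vXA, t.2.1) = t.1 ∧ t.2.2 ≤ (orbit u43 t.2.1).ncard := by
  simp only [u43_a_L, List.forall_mem_cons, List.not_mem_nil, false_imp_iff, implies_true, and_true]
  exact ⟨rep_ok (by simp only [T1, T2, Set.mem_setOf_eq, AddSubgroup.coe_neg, coe_leechU, coe_leechU', coe_leechV, coe_vW, coe_vXA]; decide +kernel) (orb_one _ _),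
    rep_ok (by simp only [T1, T2, Set.mem_setOf_eq, AddSubgroup.coe_neg, coe_leechU, coe_leechU', coe_leechV, coe_r13, coe_vW, coe_vXA]; decide +kernel) (orb_ge good_u43 code_r13 cert_u43_a_m8),
    rep_ok (by simp only [T1, T2, Set.mem_setOf_eq, AddSubgroup.coe_neg, coe_leechU, coe_leechU', coe_leechV, coe_r14, coe_vW, coe_vXA]; decide +kernel) (orb_ge good_u43 code_r14 cert_u43_a_m16)⟩

end Cfsg.Lib.Leech
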